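import Mathlib
import Cfsg.Agent.H989.OutOrth.Basic
set_option linter.all false

/-!
# Outer automorphism groups of the orthogonal groups: the three standard forms

Orders of the groups involved, the coordinatewise Frobenius automorphism and the transfer from
`E Q / Z(E Q)` to `POmega F Q`.
-/

set_option autoImplicit false

namespace Cfsg.Agent.H989.OutOrth.Forms

open QuadraticMap Cfsg.Agent.LieClassical.OrthCore Cfsg.Agent.LieClassical.OrthTrans
  Cfsg.Agent.LieClassical.OrthSimple Cfsg.Agent.ClassicalGeometry.OrthSemi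
  Cfsg.Agent.ClassicalGeometry.OrthSemiCount Cfsg.Agent.ClassicalGeometry.OrthAut1
  Cfsg.Agent.ClassicalGeometry.OrthSemiForms Cfsg.Agent.LieClassical.OrthForms
  Cfsg.Agent.H989.OutOrth.Abstract Cfsg.Agent.H989.OutOrth.Basic

/-! ### Transfer -/

/-- `Out` of isomorphic groups. -/
noncomputable def outCongr {G H : Type*} [Group G] [Group H] (e : G ≃* H) :
    Cfsg.Out G ≃* Cfsg.Out H :=
  QuotientGroup.congr _ _ (MulAut.congr e) (by
    ext α
    rw [Subgroup.mem_map]
    constructor
    · rintro ⟨_, ⟨g, rfl⟩, rfl⟩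
      refine ⟨e g, ?_⟩
      ext x
      show e g * x * (e g)⁻¹ = e (g * e.symm x * g⁻¹)
      rw [map_mul, map_mul, map_inv, MulEquiv.apply_symm_apply]
    · rintro ⟨h, rfl⟩
      refine ⟨MulAut.conj (e.symm h), ⟨_, rfl⟩, ?_⟩
      ext x
      show e (e.symm h * e.symm x * (e.symm h)⁻¹) = h * x * h⁻¹
      rw [map_mul, map_mul, map_inv, MulEquiv.apply_symm_apply, MulEquiv.apply_symm_apply])

/-! ### The Frobenius automorphism -/

section Frob

variable {F : Type*} [Field F] [Fintype F] {p f : ℕ} [hp : Fact p.Prime]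

theorem charP_of_card (hF : Fintype.card F = p ^ f) : CharP F p := by
  obtain ⟨q, hq⟩ := CharP.exists F
  obtain ⟨n, hqp, hn⟩ := FiniteField.card F q
  have h1 : q ∣ p ^ f := by rw [← hF, hn]; exact dvd_pow_self q n.pos.ne'
  have h2 : q = p := (Nat.prime_dvd_prime_iff_eq hqp hp.out).1 (hqp.dvd_of_dvd_pow h1)
  rwa [← h2]

theorem exists_frob (hf : 1 ≤ f) (hF : Fintype.card F = p ^ f) :
    ∃ φ : RingAut F, (∀ x, φ x = x ^ p) ∧ φ ^ f = 1 ∧ ∀ k : ℕ, φ ^ k = 1 → f ∣ k := by
  have hchar : CharP F p := charP_of_card hF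
  let φ : RingAut F := frobeniusEquiv F p
  have h1 : ∀ x, φ x = x ^ p := fun x => by
    show frobeniusEquiv F p x = x ^ p
    rw [frobeniusEquiv_apply, frobenius_def]
  have hpow : ∀ (k : ℕ) (x : F), (φ ^ k) x = x ^ p ^ k := by
    intro k
    induction k with
    | zero => intro x; rw [pow_zero, pow_zero, pow_one]; rfl
    | succ k ih =>
      intro x
      rw [pow_succ]
      show (φ ^ k) (φ x) = _
      rw [ih, h1, ← pow_mul, pow_succ, mul_comm]
  have hφf : φ ^ f = 1 := by
    ext x
    rw [hpow, ← hF, FiniteField.pow_card]; rfl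
  refine ⟨φ, h1, hφf, ?_⟩
  have hord : orderOf φ = f := by
    have h2 : orderOf φ ∣ f := orderOf_dvd_of_pow_eq_one hφf
    apply le_antisymm (Nat.le_of_dvd hf h2)
    have h3 : 0 < orderOf φ := Nat.pos_of_dvd_of_pos h2 hf
    have h4 := pow_orderOf_eq_one φ
    by_contra hlt
    push Not at hlt
    have h5 : ∀ x : F, x ^ p ^ orderOf φ = x := by
      intro x
      rw [← hpow, h4]; rfl
    have h6 : 1 < p ^ orderOf φ := Nat.one_lt_pow h3.ne' hp.out.one_lt
    have h7 : Fintype.card F ≤ p ^ orderOf φ := by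
      classical
      have h8 : (Polynomial.X ^ p ^ orderOf φ - Polynomial.X : Polynomial F) ≠ 0 :=
        FiniteField.X_pow_card_sub_X_ne_zero F h6
      have h9 : (Finset.univ : Finset F) ⊆
          (Polynomial.X ^ p ^ orderOf φ - Polynomial.X : Polynomial F).roots.toFinset := by
        intro x _
        rw [Multiset.mem_toFinset, Polynomial.mem_roots h8, Polynomial.IsRoot.def]
        simp [h5 x]
      calc Fintype.card F = (Finset.univ : Finset F).card := rfl
        _ ≤ _ := Finset.card_le_card h9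
        _ ≤ _ := Multiset.toFinset_card_le _
        _ ≤ _ := Polynomial.card_roots' _
        _ = _ := FiniteField.X_pow_card_sub_X_natDegree_eq F h6
    rw [hF] at h7
    exact absurd h7 (not_le.2 (Nat.pow_lt_pow_right hp.out.one_lt hlt))
  intro k hk
  rw [← hord]
  exact orderOf_dvd_of_pow_eq_one hk

end Frob

/-- Coordinatewise application of a field automorphism. -/
def cw (ι : Type) (F : Type*) [Field F] : RingAut F →* Equiv.Perm (ι → F) where
  toFun σ :=
    { toFun := fun v i => σ (v i)
      invFun := fun v i => σ.symm (v i)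
      left_inv := fun v => funext fun i => σ.symm_apply_apply (v i)
      right_inv := fun v => funext fun i => σ.apply_symm_apply (v i) }
  map_one' := rfl
  map_mul' _ _ := rfl

section General

variable {F : Type*} [Field F] {ι : Type}

theorem cw_apply (σ : RingAut F) (v : ι → F) (i : ι) : cw ι F σ v i = σ (v i) := rfl

theorem isSS_cw_plus (m : ℕ) (σ : RingAut F) :
    IsSS (plusForm m F) σ 1 (cw (Fin m ⊕ Fin m) F σ) := by
  refine ⟨one_ne_zero, ?_, ?_, ?_⟩
  · intro u v
    funext i
    exact map_add σ _ _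
  · intro a v
    funext i
    exact map_mul σ _ _
  · intro v
    rw [coe_plusForm, quadFormPlus_apply, quadFormPlus_apply, one_mul, map_sum]
    refine Finset.sum_congr rfl fun i _ => ?_
    rw [cw_apply, cw_apply, map_mul]

theorem isSS_cw_odd (m : ℕ) (σ : RingAut F) :
    IsSS (oddForm m F) σ 1 (cw (Unit ⊕ (Fin m ⊕ Fin m)) F σ) := by
  refine ⟨one_ne_zero, ?_, ?_, ?_⟩
  · intro u v
    funext i
    exact map_add σ _ _
  · intro a v
    funext i
    exact map_mul σ _ _
  · intro v
    rw [coe_oddForm, quadFormOdd_apply, quadFormOdd_apply, one_mul, map_add, map_sum, map_pow]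
    simp only [cw_apply, map_mul]

end General

/-! ### Abstract conclusion of the orders -/

section Card

variable {F : Type*} [Field F] [Fintype F] {ι : Type} [Fintype ι] [DecidableEq ι]
  {Q : QuadraticForm F (ι → F)}

theorem card_P (hG : Good Q) : Nat.card (P Q) = Nat.card (Cfsg.POmega F ⇑Q) :=
  (Nat.card_congr (pomegaEquiv hG).toEquiv).symm

theorem card_POmega_pos (hG : Good Q) : 0 < Nat.card (Cfsg.POmega F ⇑Q) := by
  rw [← card_P hG]
  have hfinE : Finite ((ι → F) ≃ₗ[F] (ι → F)) := Finite.of_injective (fun g => g.toEquiv)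
    fun g h e => LinearEquiv.toEquiv_injective e
  have : Finite (P Q) := inferInstance
  exact Nat.card_pos

/-- The order of the group of outer automorphisms induced by semisimilitudes. -/
theorem card_range_out_eq (hG : Good Q) {N : ℕ}
    (h : Nat.card (Psi Q).range = N * Nat.card (Cfsg.POmega F ⇑Q)) :
    Nat.card (out Q).range = N := by
  have h1 := card_range_out hG
  rw [h, card_P hG] at h1
  exact Nat.eq_of_mul_eq_mul_right (card_POmega_pos hG) h1

theorem card_D_eq {p f : ℕ} [Fact p.Prime] (hf : 1 ≤ f) (hF : Fintype.card F = p ^ f)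
    (hG : Good Q) (hsg : Function.Surjective (sg hG)) {N : ℕ}
    (h : Nat.card (Psi Q).range = N * f * Nat.card (Cfsg.POmega F ⇑Q)) :
    Nat.card (D hG) = N := by
  have h1 := card_D hG
  rw [card_range_out_eq hG h, MonoidHom.range_eq_top.2 hsg,
    Nat.card_congr (Subgroup.topEquiv (G := RingAut F)).toEquiv] at h1
  have h2 : Nat.card (RingAut F) = f := Cfsg.Agent.Lib.FieldAutCard.card_ringAut hf hF
  rw [h2] at h1
  exact Nat.eq_of_mul_eq_mul_right hf h1

theorem card_Out_eq {N : ℕ} (hsurj : Function.Surjective (Psi Q))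
    (h : Nat.card (out Q).range = N) : Nat.card (Cfsg.Out (P Q)) = N := by
  have h1 : Function.Surjective (out Q) := (QuotientGroup.mk'_surjective _).comp hsurj
  rw [← h, MonoidHom.range_eq_top.2 h1]
  exact (Nat.card_congr (Subgroup.topEquiv).toEquiv).symm

instance finite_Out : Finite (Cfsg.Out (P Q)) := by
  have hfinE : Finite ((ι → F) ≃ₗ[F] (ι → F)) := Finite.of_injective (fun g => g.toEquiv)
    fun g h e => LinearEquiv.toEquiv_injective e
  have : Finite (P Q) := inferInstance
  have : Finite (MulAut (P Q)) := inferInstance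
  infer_instance

/-- Powers of a semisimilitude in `D`. -/
theorem dvd_of_pow_mem_D {hG : Good Q} {Φ : Gam Q} {f : ℕ}
    (h : ∀ k : ℕ, sg hG Φ ^ k = 1 → f ∣ k) (k : ℕ) (hk : out Q Φ ^ k ∈ D hG) : f ∣ k := by
  rw [← map_pow, out_mem_D, map_pow] at hk
  exact h k hk

end Card

/-- Elements of a normal subgroup of order two commute with everything. -/
theorem comm_of_card_two {H : Type*} [Group H] {D : Subgroup H} (hD : D.Normal)
    (h2 : Nat.card D = 2) {d : H} (hd : d ∈ D) (φ : H) : d * φ = φ * d := by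
  obtain ⟨y, hy, hu⟩ := (Nat.card_eq_two_iff' (1 : D)).1 h2
  have h1 : ∀ x ∈ D, x ≠ 1 → x = y := by
    intro x hx hx1
    exact congrArg Subtype.val (hu ⟨x, hx⟩ fun h => hx1 (congrArg Subtype.val h))
  by_cases hd1 : d = 1
  · rw [hd1, one_mul, mul_one]
  have h3 : φ * d * φ⁻¹ ≠ 1 := by
    intro h
    apply hd1
    rw [mul_inv_eq_one] at h
    exact mul_eq_left.1 h
  have h4 := h1 _ (hD.conj_mem d hd φ) h3
  rw [← h1 d hd hd1] at h4
  calc d * φ = φ * d * φ⁻¹ * φ := by rw [h4]
    _ = φ * d := by group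

end Cfsg.Agent.H989.OutOrth.Forms
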