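import Mathlib
import Cfsg.Agent.H989.OutOrth.Tri
import Cfsg.Agent.H989.OutOrth.SymFour
set_option linter.all false

/-!
# Outer automorphism groups of `PΩ₈⁺(q)`
-/

set_option autoImplicit false

namespace Cfsg.Agent.H989.OutOrth.Four

open QuadraticMap Cfsg.Agent.LieClassical.QuadForms Cfsg.Agent.LieClassical.OrthCore
  Cfsg.Agent.LieClassical.OrthTrans Cfsg.Agent.LieClassical.OrthSimple
  Cfsg.Agent.ClassicalGeometry.TrialityOct Cfsg.Agent.ClassicalGeometry.OrthAut1
  Cfsg.Agent.ClassicalGeometry.Triality Cfsg.Agent.ClassicalGeometry.OrthSemi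
  Cfsg.Agent.ClassicalGeometry.OrthSemiCount Cfsg.Agent.ClassicalGeometry.OrthSemiForms
  Cfsg.Agent.H989.OutOrth.Abstract Cfsg.Agent.H989.OutOrth.Basic Cfsg.Agent.H989.OutOrth.Forms
  Cfsg.Agent.H989.OutOrth.Small Cfsg.Agent.H989.OutOrth.Tri Cfsg.Agent.H989.OutOrth.SymFour

section Elements

variable {F : Type*} [Field F]

/-- The coordinatewise field automorphism. -/
def Fi (σ : RingAut F) : Gam (plusForm 4 F) :=
  ⟨cw _ F σ, _, _, by
    rw [← Cfsg.Agent.AutOrth.Main.plusForm_eq]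
    exact isSS_cw_plus 4 σ⟩

theorem isSS_Fi (σ : RingAut F) : IsSS (plusForm 4 F) σ 1 (Fi σ).1 := by
  show IsSS (plusForm 4 F) σ 1 (cw _ F σ)
  rw [← Cfsg.Agent.AutOrth.Main.plusForm_eq]
  exact isSS_cw_plus 4 σ

theorem sg_Fi (hG : Good (plusForm 4 F)) (σ : RingAut F) : sg hG (Fi σ) = σ :=
  sg_eq hG (isSS_Fi σ)

theorem Fi_pow (σ : RingAut F) (k : ℕ) : Fi σ ^ k = Fi (σ ^ k) := by
  apply Subtype.ext
  show (cw _ F σ) ^ k = cw _ F (σ ^ k)
  rw [map_pow]

theorem Fi_one : Fi (1 : RingAut F) = 1 := rfl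

theorem Fi_apply (σ : RingAut F) (x : V8 F) (i : Fin 4 ⊕ Fin 4) : (Fi σ).1 x i = σ (x i) := rfl

theorem triG_Fi (σ : RingAut F) : TriG (Fi σ) (Fi σ) (Fi σ) := by
  intro x y
  apply ext8 <;>
  simp only [omul_l0, omul_l1, omul_l2, omul_l3, omul_r0, omul_r1, omul_r2, omul_r3, Fi_apply,
    map_sub, map_add, map_mul]

theorem kapG_Fi_kapG (σ : RingAut F) : kapG F * Fi σ * kapG F = Fi σ := by
  apply Subtype.ext
  ext x : 1
  show oconj ((Fi σ).1 (oconj x)) = (Fi σ).1 x
  apply ext8 <;>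
  simp only [oconj_l0, oconj_l1, oconj_l2, oconj_l3, oconj_r0, oconj_r1, oconj_r2, oconj_r3,
    Fi_apply, map_neg, neg_neg]

/-- Left multiplication by a nonsingular octonion. -/
def LP {a : V8 F} (ha : plusForm 4 F a ≠ 0) : Equiv.Perm (V8 F) where
  toFun x := omul a x
  invFun x := (plusForm 4 F a)⁻¹ • omul (oconj a) x
  left_inv x := by
    show (plusForm 4 F a)⁻¹ • omul (oconj a) (omul a x) = x
    rw [oconj_omul_omul, smul_smul, inv_mul_cancel₀ ha, one_smul]
  right_inv x := by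
    show omul a ((plusForm 4 F a)⁻¹ • omul (oconj a) x) = x
    rw [omul_smul, omul_oconj_omul, smul_smul, inv_mul_cancel₀ ha, one_smul]

theorem isSS_LP {a : V8 F} (ha : plusForm 4 F a ≠ 0) :
    IsSS (plusForm 4 F) (RingEquiv.refl F) (plusForm 4 F a) (LP ha) :=
  ⟨ha, fun u v => omul_add a u v, fun t v => omul_smul t a v, fun v => norm_omul a v⟩

/-- Left multiplication as a similitude. -/
def LG {a : V8 F} (ha : plusForm 4 F a ≠ 0) : Gam (plusForm 4 F) := ⟨LP ha, _, _, isSS_LP ha⟩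

/-- Right multiplication by a nonsingular octonion, divided by the norm. -/
def RP {a : V8 F} (ha : plusForm 4 F a ≠ 0) : Equiv.Perm (V8 F) where
  toFun x := (plusForm 4 F a)⁻¹ • omul x a
  invFun x := omul x (oconj a)
  left_inv x := by
    show omul ((plusForm 4 F a)⁻¹ • omul x a) (oconj a) = x
    rw [smul_omul, omul_omul_oconj, smul_smul, inv_mul_cancel₀ ha, one_smul]
  right_inv x := by
    show (plusForm 4 F a)⁻¹ • omul (omul x (oconj a)) a = x
    rw [omul_oconj_omul', smul_smul, inv_mul_cancel₀ ha, one_smul]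

theorem isSS_RP {a : V8 F} (ha : plusForm 4 F a ≠ 0) :
    IsSS (plusForm 4 F) (RingEquiv.refl F) (plusForm 4 F a)⁻¹ (RP ha) := by
  refine ⟨inv_ne_zero ha, fun u v => ?_, fun t v => ?_, fun v => ?_⟩
  · show (plusForm 4 F a)⁻¹ • omul (u + v) a =
      (plusForm 4 F a)⁻¹ • omul u a + (plusForm 4 F a)⁻¹ • omul v a
    rw [add_omul, smul_add]
  · show (plusForm 4 F a)⁻¹ • omul (t • v) a = t • (plusForm 4 F a)⁻¹ • omul v a
    rw [smul_omul, smul_comm]
  · show plusForm 4 F ((plusForm 4 F a)⁻¹ • omul v a) = _ * plusForm 4 F v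
    rw [QuadraticMap.map_smul, norm_omul, smul_eq_mul]
    field_simp

/-- Right multiplication as a similitude. -/
def RG {a : V8 F} (ha : plusForm 4 F a ≠ 0) : Gam (plusForm 4 F) := ⟨RP ha, _, _, isSS_RP ha⟩

theorem one_ne : plusForm 4 F (one8 F) ≠ 0 := by rw [norm_one8]; exact one_ne_zero

theorem refl_one (x : V8 F) : refl (plusForm 4 F) (one8 F) one_ne x = - oconj x := by
  rw [refl_eq, norm_one8, one_omul, omul_one, inv_one, neg_smul, one_smul]

theorem triG_B {a : V8 F} (ha : plusForm 4 F a ≠ 0) :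
    TriG (rf a ha * rf (one8 F) one_ne) (LG ha) (RG ha) := by
  intro x y
  show refl _ a ha (refl _ (one8 F) one_ne (omul x y)) =
    omul (omul a x) ((plusForm 4 F a)⁻¹ • omul y a)
  have h : oconj (-(oconj (omul x y))) = - omul x y := by
    have h1 := (kap F).map_neg (oconj (omul x y))
    refine h1.trans ?_
    show - oconj (oconj (omul x y)) = _
    rw [oconj_oconj]
  rw [refl_one, refl_eq, h, omul_smul, ← moufang, neg_smul]
  have h2 : omul (omul a (-(omul x y))) a = - omul (omul a (omul x y)) a := by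
    have e : -(omul x y) = (-1 : F) • omul x y := by rw [neg_smul, one_smul]
    rw [e, omul_smul, smul_omul, neg_smul, one_smul]
  rw [h2, smul_neg, neg_neg]

theorem kapG_eq : kapG F = rf (one8 F) one_ne * scal (plusForm 4 F) (-1) := by
  apply Subtype.ext
  ext x : 1
  show oconj x = refl _ (one8 F) one_ne (((-1 : Fˣ) : F) • x)
  rw [refl_one]
  have : ((-1 : Fˣ) : F) • x = - x := by rw [Units.val_neg, Units.val_one, neg_smul, one_smul]
  rw [this]
  have h1 := (kap F).map_neg x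
  have h2 : oconj (-x) = - oconj x := h1
  rw [h2, neg_neg]

/-- An octonion of norm `c`. -/
def vc (c : F) : V8 F := Sum.elim ![1, 0, 0, 0] ![c, 0, 0, 0]

theorem norm_vc (c : F) : plusForm 4 F (vc c) = c := by
  rw [norm8]; simp [vc]

end Elements

/-! ### The relations in the outer automorphism group -/

section Rel

variable {F : Type*} [Field F]

open scoped commutatorElement in
/-- Classes of isometries commute. -/
theorem out_comm {V : Type*} [AddCommGroup V] [Module F V] {Q : QuadraticForm F V}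
    (hG : Good Q) (g h : O Q) :
    out Q (ofO Q g) * out Q (ofO Q h) = out Q (ofO Q h) * out Q (ofO Q g) := by
  have h1 : (⁅g.1, h.1⁆ : V ≃ₗ[F] V) ∈ E Q :=
    hG.commutator_le_E (Subgroup.commutator_mem_commutator g.2 h.2)
  have h2 := out_ofO_of_mem h1
  have h3 : (⟨⁅g.1, h.1⁆, E_le_O h1⟩ : O Q) = ⁅g, h⁆ := rfl
  rw [h3, map_commutatorElement, map_commutatorElement, commutatorElement_eq_one_iff_mul_comm]
    at h2
  exact h2

/-- The class of an automorphism. -/
def cl {V : Type*} [AddCommGroup V] [Module F V] {Q : QuadraticForm F V} :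
    MulAut (P Q) →* Cfsg.Out (P Q) := QuotientGroup.mk' (Cfsg.Inn (P Q))

theorem cl_Psi {V : Type*} [AddCommGroup V] [Module F V] {Q : QuadraticForm F V} (M : Gam Q) :
    cl (Psi Q M) = out Q M := rfl

theorem out_kapG (hG : Good (plusForm 4 F)) :
    out _ (kapG F) = out _ (rf (one8 F) one_ne) := by
  rw [kapG_eq, map_mul, out_scal hG, mul_one]

variable {ρ : MulAut (P (plusForm 4 F))}

theorem rho_cube (hG : Good (plusForm 4 F)) (hρ : IsRho ρ) : cl ρ ^ 3 = 1 := by
  rw [← map_pow, hρ.cube hG, map_one]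

theorem kap_sq : out _ (kapG F) * out _ (kapG F) = 1 := by
  rw [← map_mul, kapG_mul_kapG, map_one]

theorem kap_inv_eq : (out _ (kapG F))⁻¹ = out _ (kapG F) :=
  inv_eq_of_mul_eq_one_left kap_sq

theorem kap_rho (hG : Good (plusForm 4 F)) (hρ : IsRho ρ) :
    out _ (kapG F) * cl ρ * (out _ (kapG F))⁻¹ = (cl ρ)⁻¹ := by
  rw [kap_inv_eq, ← cl_Psi, ← map_mul, ← map_mul, hρ.kap_inv hG, map_inv]

theorem Fi_rho (hG : Good (plusForm 4 F)) (hρ : IsRho ρ) (σ : RingAut F) :
    out _ (Fi σ) * cl ρ = cl ρ * out _ (Fi σ) := by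
  have h := hρ.mul_Psi hG (triG_Fi σ)
  rw [kapG_Fi_kapG] at h
  rw [← cl_Psi, ← map_mul, ← map_mul, h]

theorem Fi_kap (σ : RingAut F) :
    out _ (Fi σ) * out _ (kapG F) = out _ (kapG F) * out _ (Fi σ) := by
  rw [← map_mul, ← map_mul]
  congr 1
  conv_rhs => rw [← kapG_Fi_kapG σ]
  rw [← mul_assoc, ← mul_assoc, kapG_mul_kapG, one_mul]

theorem rho_B (hG : Good (plusForm 4 F)) (hρ : IsRho ρ) {a : V8 F} (ha : plusForm 4 F a ≠ 0) :
    cl ρ * (out _ (rf a ha) * out _ (rf (one8 F) one_ne)) * (cl ρ)⁻¹ =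
      out _ (kapG F * LG ha * kapG F) := by
  rw [mul_inv_eq_iff_eq_mul, ← map_mul (out _), ← cl_Psi, ← map_mul, hρ.mul_Psi hG (triG_B ha),
    map_mul, cl_Psi]

theorem cl_rho_ne (hG : Good (plusForm 4 F)) (hρ : IsRho ρ) : cl ρ ≠ 1 := by
  intro h
  apply hρ.not_mem_range hG
  have h1 : ρ ∈ Cfsg.Inn (P (plusForm 4 F)) := (QuotientGroup.eq_one_iff _).1 h
  exact Inn_le_range h1

end Rel

theorem mul_comm_of {G : Type*} [Group G] {x a b : G} (h1 : x * a = a * x) (h2 : x * b = b * x) :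
    x * (a * b) = a * b * x := by
  rw [← mul_assoc, h1, mul_assoc, h2, mul_assoc]

/-! ### The orders -/

section Orders

variable {F : Type*} [Field F] [Fintype F] {p f : ℕ} [Fact p.Prime]

theorem good4 : Good (plusForm 4 F) := Cfsg.Agent.AutOrth.Main.good_plus (by norm_num)

theorem card_Psi (hf : 1 ≤ f) (hF : Fintype.card F = p ^ f) :
    Nat.card (Psi (plusForm 4 F)).range =
      (if p = 2 then 2 else 8) * f * Nat.card (Cfsg.POmega F ⇑(plusForm 4 F)) := by
  have h1 := card_range_plus (F := F) hf hF (m := 4) (by norm_num)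
  rw [factor_plus hf 4 (by norm_num), ← coe_plusForm, Cfsg.Agent.AutOrth.Main.plusForm_eq] at h1
  rw [h1]
  by_cases hp : p = 2
  · rw [if_pos hp, if_pos hp]
  · rw [if_neg hp, if_neg hp, if_pos]
    have h2 : 4 * (p ^ f - 1) / 2 = 2 * (p ^ f - 1) := by omega
    rw [h2]
    exact even_two_mul _

theorem card_Out4 (hf : 1 ≤ f) (hF : Fintype.card F = p ^ f) :
    Nat.card (Cfsg.Out (P (plusForm 4 F))) = 3 * ((if p = 2 then 2 else 8) * f) := by
  have h1 := card_range_out_eq good4 (card_Psi hf hF)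
  have hidx : (out (plusForm 4 F)).range.index = 3 := by
    have h2 := Cfsg.Agent.AutOrth.Final.index_plus_four (F := F)
    rw [Cfsg.Agent.AutOrth.Main.plusForm_eq] at h2
    rw [← h2, range_out]
    refine Subgroup.index_map_eq _ (QuotientGroup.mk'_surjective _) ?_
    rw [QuotientGroup.ker_mk']
    exact Inn_le_range
  rw [← Subgroup.card_mul_index (out (plusForm 4 F)).range, h1, hidx, mul_comm]

theorem sg_surj4 (hG : Good (plusForm 4 F)) : Function.Surjective (sg hG) :=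
  fun σ => ⟨Fi σ, sg_Fi hG σ⟩

theorem dvd_of_out_pow (hG : Good (plusForm 4 F)) {φ : RingAut F}
    (h : ∀ k : ℕ, φ ^ k = 1 → f ∣ k) (j : ℕ) (hj : out (plusForm 4 F) (Fi φ) ^ j = 1) : f ∣ j := by
  apply h
  rw [← map_pow] at hj
  have h1 := sg_eq_one_of_out hG hj
  rwa [map_pow, sg_Fi] at h1

/-- `Out (PΩ₈⁺(q))` for `q` even. -/
theorem even_case (hf : 1 ≤ f) (hF : Fintype.card F = p ^ f) (hp : p = 2) :
    Nonempty (Cfsg.Out (P (plusForm 4 F)) ≃* Equiv.Perm (Fin 3) × Multiplicative (ZMod f)) := by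
  have hG : Good (plusForm 4 F) := good4
  obtain ⟨φ, -, hφ2, hφ3⟩ := exists_frob (F := F) hf hF
  obtain ⟨ρ, hρ⟩ := exists_rho hG
  refine s3_prod (ρ := cl ρ) (k := out _ (kapG F)) (φ := out _ (Fi φ)) hf ?_ (rho_cube hG hρ)
    kap_sq (kap_rho hG hρ) (cl_rho_ne hG hρ) (Fi_rho hG hρ φ) (Fi_kap φ) ?_
    (dvd_of_out_pow hG hφ3)
  · rw [card_Out4 hf hF, if_pos hp]; ring
  · rw [← map_pow, Fi_pow, hφ2, Fi_one, map_one]

set_option maxHeartbeats 1000000 in
/-- `Out (PΩ₈⁺(q))` for `q` odd. -/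
theorem odd_case (hf : 1 ≤ f) (hF : Fintype.card F = p ^ f) (hp : p ≠ 2) :
    Nonempty (Cfsg.Out (P (plusForm 4 F)) ≃* Equiv.Perm (Fin 4) × Multiplicative (ZMod f)) := by
  have hpo : Odd p := (Fact.out : p.Prime).odd_of_ne_two hp
  have h2 : (2 : F) ≠ 0 := Cfsg.Agent.LieClassical.PomegaCard.odd_card_iff.1
    (by rw [hF]; exact hpo.pow)
  have hG : Good (plusForm 4 F) := good4
  obtain ⟨φ, hφ1, hφ2, hφ3⟩ := exists_frob (F := F) hf hF
  obtain ⟨ρ, hρ⟩ := exists_rho hG
  obtain ⟨c, hc⟩ := Cfsg.Agent.H989.OutOrth.Plus.exists_nonsquare h2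
  have hcard := card_Psi (F := F) hf hF
  rw [if_neg hp] at hcard
  have hD := card_D_eq hf hF hG (sg_surj4 hG) hcard
  obtain ⟨a, ha'⟩ : ∃ a : V8 F, a = vc (c : F) := ⟨_, rfl⟩
  have hac : plusForm 4 F a = c := by rw [ha', norm_vc]
  have ha : plusForm 4 F a ≠ 0 := by rw [hac]; exact c.ne_zero
  have hca : ¬ IsSquare (plusForm 4 F a) := by rw [hac]; exact hc
  have hnc := not_comm_of_eight hG hD (one_ne (F := F)) (δ0 := LG ha) (isSS_LP ha)
    (fun x _ => sq_cases hca x)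
  set r1 := out (plusForm 4 F) (rf (one8 F) one_ne) with hr1
  set ra := out (plusForm 4 F) (rf a ha) with hra
  have hk : out _ (kapG F) = r1 := out_kapG hG
  have hcomm : ra * r1 = r1 * ra := out_comm hG _ _
  have hr1s : r1 * r1 = 1 := by rw [hr1, ← map_mul, rf_mul_self, map_one]
  have hras : ra * ra = 1 := by rw [hra, ← map_mul, rf_mul_self, map_one]
  have hL : out _ (LG ha) * r1 = ra * out _ (LG ha) := by
    have h3 : (LG ha).1 (one8 F) = a := omul_one a
    have h4 : plusForm 4 F ((LG ha).1 (one8 F)) ≠ 0 := by rw [h3]; exact ha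
    have h5 := conj_rf (LG ha) (one_ne (F := F)) h4
    have h6 : out _ (rf ((LG ha).1 (one8 F)) h4) = ra := out_rf_of_eq hG h4 ha (by rw [h3])
    rw [← h6, ← h5, map_mul, map_mul, map_inv, inv_mul_cancel_right]
  have hz1 : ra * r1 ≠ 1 := by
    intro h
    apply hnc
    have h3 : ra = r1 := mul_right_cancel (h.trans hr1s.symm)
    rw [hL, h3]
  obtain ⟨X, hX⟩ : ∃ X, X = kapG F * LG ha * kapG F := ⟨_, rfl⟩
  have hδ : cl ρ * (ra * r1) * (cl ρ)⁻¹ = out _ X := by rw [hX]; exact rho_B hG hρ ha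
  have hδr : out _ X * r1 = ra * out _ X := by
    have h3 : X.1 (one8 F) = oconj a := by
      rw [hX]
      show oconj (omul a (oconj (one8 F))) = oconj a
      have h4 : oconj (one8 F) = one8 F := by apply ext8 <;> simp [oconj, one8]
      rw [h4, omul_one]
    have h4 : plusForm 4 F (X.1 (one8 F)) ≠ 0 := by
      rw [h3, norm_oconj]; exact ha
    have h5 := conj_rf X (one_ne (F := F)) h4
    have h6 : out _ (rf (X.1 (one8 F)) h4) = ra :=
      out_rf_of_eq hG h4 ha (by rw [h3, norm_oconj])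
    rw [← h6, ← h5, map_mul, map_mul, map_inv, inv_mul_cancel_right]
  refine s4_prod (ρ := cl ρ) (k := out _ (kapG F)) (φ := out _ (Fi φ)) (z := ra * r1) hf ?_
    (rho_cube hG hρ) kap_sq (kap_rho hG hρ) ?_ hz1 ?_ ?_ (Fi_rho hG hρ φ) (Fi_kap φ) ?_ ?_
    (dvd_of_out_pow hG hφ3)
  · rw [card_Out4 hf hF, if_neg hp]; ring
  · calc ra * r1 * (ra * r1) = ra * (r1 * ra) * r1 := by group
      _ = (ra * ra) * (r1 * r1) := by rw [← hcomm]; group
      _ = 1 := by rw [hras, hr1s, one_mul]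
  · rw [hk, mul_assoc, hr1s, mul_one, hcomm, ← mul_assoc, hr1s, one_mul]
  · rw [hδ, kap_inv_eq, hk, mul_assoc, hδr, ← mul_assoc, ← hcomm]
  · have hFa : out _ (Fi φ) * ra = ra * out _ (Fi φ) := by
      have h4 : plusForm 4 F ((Fi φ).1 a) ≠ 0 := Q_ne (Fi φ) ha
      have h5 : out _ (Fi φ) * ra * (out _ (Fi φ))⁻¹ = out _ (rf ((Fi φ).1 a) h4) := by
        rw [← conj_rf (Fi φ) ha h4, map_mul, map_mul, map_inv]
      have h6 : plusForm 4 F ((Fi φ).1 a) = 1 * φ (plusForm 4 F a) := (isSS_Fi φ).form a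
      have h7 : ra = out _ (rf ((Fi φ).1 a) h4) := by
        obtain ⟨k, hk⟩ := hpo
        refine out_rf_of_square hG ha h4 (s := (plusForm 4 F a) ^ k) ?_
        rw [h6, one_mul, hφ1, hk]
        ring
      rw [← h7, mul_inv_eq_iff_eq_mul] at h5
      exact h5
    have hF1 : out _ (Fi φ) * r1 = r1 * out _ (Fi φ) := by rw [← hk]; exact Fi_kap φ
    exact mul_comm_of hFa hF1
  · rw [← map_pow, Fi_pow, hφ2, Fi_one, map_one]

end Orders

end Cfsg.Agent.H989.OutOrth.Four
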